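import Cfsg.Agent.Lib.FusionP3.GenExtra.Split
import Mathlib.GroupTheory.SpecificGroups.Dihedral

/-!
Recognition of the dihedral group of order eight, and transport of extraspecial groups.
-/

set_option autoImplicit false

namespace Cfsg.Agent.Lib.FusionP3.GenExtra

open scoped commutatorElement

theorem isExtraspecial_congr {G H : Type*} [Group G] [Group H] [Finite H] {p : ℕ} [Fact p.Prime]
    (e : G ≃* H) (h : Cfsg.IsExtraspecial p G) : Cfsg.IsExtraspecial p H := by
  haveI : Finite G := Finite.of_equiv H e.symm.toEquiv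
  obtain ⟨⟨hp, hfr, hcm⟩, hc⟩ := h
  have hcen : (Subgroup.center G).map e.toMonoidHom = Subgroup.center H := by
    ext x
    rw [Subgroup.mem_map_equiv, Subgroup.mem_center_iff, Subgroup.mem_center_iff]
    constructor
    · intro hx q
      have := congrArg e (hx (e.symm q))
      simpa using this
    · intro hx q
      apply e.injective
      simpa using hx (e q)
  have hcom : commutator H = Subgroup.center H := by
    rw [← hcen, ← hcm, commutator_def, commutator_def, Subgroup.map_commutator,
      Subgroup.map_top_of_surjective (e.toMonoidHom) e.surjective]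
  have hH := hp.of_equiv e
  refine ⟨⟨hH, le_antisymm ?_ ?_, hcom⟩, ?_⟩
  · refine Cfsg.Agent.Lib.PGroups.frattini_le_of_pow_commutator (p := p) _ (fun u => ?_) hcom.le
    rw [← hcen, ← e.apply_symm_apply u, ← map_pow]
    exact ⟨_, hfr ▸ Cfsg.Agent.Lib.PGroups.pow_mem_frattini hp (e.symm u), rfl⟩
  · exact hcom.ge.trans (Cfsg.Agent.Lib.PGroups.commutator_le_frattini hH)
  · rw [← hcen, Subgroup.card_map_of_injective (f := e.toMonoidHom) e.injective, hc]

variable {P : Type*} [Group P] [Finite P] {x y z : P} [Fact (Nat.Prime 2)] (h : Data 2 x y z)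
include h

theorem dihedral : Nonempty (E h ≃* DihedralGroup 4) := by
  set r : E h := ⟨x, x_mem h⟩ * ⟨y, y_mem h⟩ with hr
  set s : E h := ⟨x, x_mem h⟩ with hs
  have hs2 : s * s = 1 := Subtype.ext (by rw [← pow_two] ; exact h.x_pow)
  have hy2 : y * y = 1 := by rw [← pow_two]; exact y_pow h
  have hx2 : x * x = 1 := by rw [← pow_two]; exact h.x_pow
  have hr2 : ((r * r : E h) : P) = z := by
    show x * y * (x * y) = z
    rw [← h.comm, commutatorElement_def, inv_eq_of_mul_eq_one_right hx2, inv_eq_of_mul_eq_one_right hy2]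
    group
  have hr4 : r ^ 4 = 1 := Subtype.ext (by
    rw [show (4 : ℕ) = 2 * 2 from rfl, pow_mul, pow_two, pow_two, Subgroup.coe_mul, hr2, ← pow_two, z_pow h]
    rfl)
  have hrinv : s * r * s = r⁻¹ := by
    refine eq_inv_of_mul_eq_one_left (Subtype.ext ?_)
    show x * (x * y) * x * (x * y) = 1
    calc x * (x * y) * x * (x * y) = (x * x) * y * (x * x) * y := by group
      _ = 1 := by rw [hx2, one_mul, mul_one, hy2]
  have hrord : orderOf r = 4 := by
    refine orderOf_eq_prime_pow (p := 2) (n := 1) ?_ hr4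
    rw [pow_one, pow_two]
    intro h1
    exact h.z_ne (by rw [← hr2, h1]; rfl)
  let rp : ZMod 4 → E h := fun i => r ^ i.val
  have hadd : ∀ i j : ZMod 4, rp (i + j) = rp i * rp j := fun i j => by
    show r ^ (i + j).val = r ^ i.val * r ^ j.val
    rw [← pow_add, ZMod.val_add]
    have h1 := pow_mod_orderOf r (i.val + j.val)
    rw [hrord] at h1
    exact h1
  have hrp0 : rp 0 = 1 := by show r ^ (0 : ZMod 4).val = 1; rw [ZMod.val_zero, pow_zero]
  have hconj : ∀ i, s * rp i * s = (rp i)⁻¹ := fun i => by
    show s * r ^ i.val * s = (r ^ i.val)⁻¹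
    rw [← inv_pow, ← hrinv]
    have hs' : s⁻¹ = s := inv_eq_of_mul_eq_one_right hs2
    conv_rhs => rw [show s * r * s = s * r * s⁻¹ by rw [hs'], conj_pow, hs']
  have hsub : ∀ i j : ZMod 4, rp (j - i) = (rp i)⁻¹ * rp j := fun i j => by
    rw [eq_inv_mul_iff_mul_eq, ← hadd, add_sub_cancel]
  let f : DihedralGroup 4 →* E h :=
    { toFun := fun d => match d with
        | .r i => rp i
        | .sr i => s * rp i
      map_one' := hrp0
      map_mul' := by
        rintro (i | i) (j | j)
        · exact hadd i j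
        · show s * rp (j - i) = rp i * (s * rp j)
          rw [hsub, ← hconj]
          calc s * (s * rp i * s * rp j) = (s * s) * (rp i * (s * rp j)) := by group
            _ = _ := by rw [hs2, one_mul]
        · show s * rp (i + j) = s * rp i * rp j
          rw [hadd, mul_assoc]
        · show rp (j - i) = s * rp i * (s * rp j)
          rw [hsub, ← hconj, mul_assoc (s * rp i)] }
  have hsurj : Function.Surjective f := by
    have hxm : s ∈ f.range := ⟨.sr 0, by show s * rp 0 = s; rw [hrp0, mul_one]⟩
    have hrm : r ∈ f.range := ⟨.r 1, by show r ^ (1 : ZMod 4).val = r; rw [show (1 : ZMod 4).val = 1 from rfl, pow_one]⟩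
    have hym : (⟨y, y_mem h⟩ : E h) ∈ f.range := by
      rw [show (⟨y, y_mem h⟩ : E h) = s⁻¹ * r by rw [hr]; group]
      exact f.range.mul_mem (f.range.inv_mem hxm) hrm
    have hzm : (⟨z, z_mem h⟩ : E h) ∈ f.range := by
      rw [show (⟨z, z_mem h⟩ : E h) = r * r from Subtype.ext hr2.symm]
      exact f.range.mul_mem hrm hrm
    rintro ⟨g, i, j, k, rfl⟩
    exact f.range.mul_mem (f.range.mul_mem (f.range.zpow_mem hxm i) (f.range.zpow_mem hym j))
      (f.range.zpow_mem hzm k)
  refine ⟨(MulEquiv.ofBijective f ((Nat.bijective_iff_surjective_and_card f).2 ⟨hsurj, ?_⟩)).symm⟩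
  rw [card_E h, DihedralGroup.nat_card]
  rfl

end Cfsg.Agent.Lib.FusionP3.GenExtra
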