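import Mathlib
import Cfsg.Agent.Lib.PGroups.Frattini
import Cfsg.Prelude.Def_Transfer

/-!
Splitting a nonabelian subgroup of order `p³` off a group with elementary abelian centre of index `p²`
and derived group of order `p`.
-/

set_option autoImplicit false
set_option linter.unusedSectionVars false

namespace Cfsg.Agent.Lib.FusionP3.GenExtra

open scoped commutatorElement

variable {P : Type*} [Group P] {p : ℕ} [Fact p.Prime]

/-- `x, y` generate a nonabelian group of order `p³` with centre `⟨z⟩`, and `C(y)` is elementary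
abelian. -/
structure Data (p : ℕ) (x y z : P) : Prop where
  comm : ⁅x, y⁆ = z
  z_ne : z ≠ 1
  central : ∀ g, g * z = z * g
  comm_mem : ∀ a b : P, ⁅a, b⁆ ∈ Subgroup.zpowers z
  x_pow : x ^ p = 1
  abel : ∀ g g' : P, g * y = y * g → g' * y = y * g' → g * g' = g' * g
  cy_pow : ∀ g : P, g * y = y * g → g ^ p = 1

variable {x y z : P} (h : Data p x y z)
include h

theorem y_pow : y ^ p = 1 := h.cy_pow y rfl

theorem z_pow : z ^ p = 1 := h.cy_pow z (h.central y).symm

theorem z_order : orderOf z = p := orderOf_eq_prime (z_pow h) h.z_ne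

theorem zpow_eq_one {k : ℤ} (hk : z ^ k = 1) : (p : ℤ) ∣ k := by
  rw [← z_order h]; exact orderOf_dvd_iff_zpow_eq_one.2 hk

theorem comm_central (a b g : P) : g * ⁅a, b⁆ = ⁅a, b⁆ * g := by
  obtain ⟨k, hk⟩ := h.comm_mem a b
  rw [← hk]
  exact (Commute.zpow_right (h.central g) k).eq

theorem comm_mul_left (a b c : P) : ⁅a * b, c⁆ = ⁅a, c⁆ * ⁅b, c⁆ := by
  calc ⁅a * b, c⁆ = a * ⁅b, c⁆ * (c * a⁻¹ * c⁻¹) := by
        rw [commutatorElement_def, commutatorElement_def]; group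
    _ = ⁅b, c⁆ * ⁅a, c⁆ := by rw [comm_central h b c a, commutatorElement_def, commutatorElement_def]; group
    _ = ⁅a, c⁆ * ⁅b, c⁆ := comm_central h a c _

/-- `g ↦ ⁅g, c⁆` -/
def brk (c : P) : P →* P where
  toFun g := ⁅g, c⁆
  map_one' := commutatorElement_one_left c
  map_mul' a b := comm_mul_left h a b c

theorem brk_apply (c g : P) : brk h c g = ⁅g, c⁆ := rfl

theorem brk_x_y : brk h y x = z := h.comm

theorem brk_y_x : brk h x y = z⁻¹ := by
  rw [brk_apply, ← commutatorElement_inv x y, h.comm]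

theorem brk_self (g : P) : brk h g g = 1 := by
  rw [brk_apply, commutatorElement_eq_one_iff_mul_comm]

theorem mem_center_iff' {g : P} : g ∈ Subgroup.center P ↔ brk h y g = 1 ∧ brk h x g = 1 := by
  constructor
  · intro hg
    simp only [brk_apply, commutatorElement_eq_one_iff_mul_comm]
    exact ⟨(Subgroup.mem_center_iff.1 hg y).symm, (Subgroup.mem_center_iff.1 hg x).symm⟩
  · rintro ⟨h1, h2⟩
    simp only [brk_apply, commutatorElement_eq_one_iff_mul_comm] at h1 h2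
    refine Subgroup.mem_center_iff.2 fun q => ?_
    -- `q = x ^ i * q'` with `q'` centralizing `y`
    obtain ⟨i, hi⟩ := h.comm_mem q y
    have h3 : (x ^ (-i) * q) * y = y * (x ^ (-i) * q) := by
      rw [← commutatorElement_eq_one_iff_mul_comm, ← brk_apply h y, map_mul, map_zpow, brk_x_y h,
        brk_apply h y, show ⁅q, y⁆ = z ^ i from hi.symm]
      group
    have h4 := h.abel g _ h1 h3
    have h5 : Commute g (x ^ i) := Commute.zpow_right h2 i
    calc q * g = x ^ i * (x ^ (-i) * q * g) := by group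
      _ = x ^ i * (g * (x ^ (-i) * q)) := by rw [h4]
      _ = g * x ^ i * (x ^ (-i) * q) := by rw [← mul_assoc, ← h5.eq]
      _ = g * q := by group

theorem brk_zpows (i j k : ℤ) :
    brk h y (x ^ i * y ^ j * z ^ k) = z ^ i ∧ brk h x (x ^ i * y ^ j * z ^ k) = z ^ (-j) := by
  have hz : ∀ c, brk h c z = 1 := fun c => by
    rw [brk_apply, commutatorElement_eq_one_iff_mul_comm]; exact (h.central c).symm
  constructor
  · rw [map_mul, map_mul, map_zpow, map_zpow, map_zpow, brk_x_y h, brk_self h, hz]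
    simp
  · rw [map_mul, map_mul, map_zpow, map_zpow, map_zpow, brk_y_x h, brk_self h, hz]
    simp

/-- The subgroup `{xⁱ yʲ zᵏ}`. -/
def E : Subgroup P where
  carrier := {g | ∃ i j k : ℤ, g = x ^ i * y ^ j * z ^ k}
  one_mem' := ⟨0, 0, 0, by simp⟩
  mul_mem' := by
    rintro _ _ ⟨i, j, k, rfl⟩ ⟨i', j', k', rfl⟩
    obtain ⟨m, hm⟩ := h.comm_mem (y ^ j) (x ^ i')
    replace hm : ⁅y ^ j, x ^ i'⁆ = z ^ m := hm.symm
    refine ⟨i + i', j + j', m + (k + k'), ?_⟩
    have hz : ∀ (n : ℤ) (g : P), z ^ n * g = g * z ^ n := fun n g =>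
      (Commute.zpow_right (h.central g) n).eq.symm
    have e1 : y ^ j * x ^ i' = x ^ i' * y ^ j * z ^ m := by
      rw [← hz m, ← hm, commutatorElement_def]; group
    calc x ^ i * y ^ j * z ^ k * (x ^ i' * y ^ j' * z ^ k')
        = x ^ i * y ^ j * (z ^ k * (x ^ i' * y ^ j')) * z ^ k' := by group
      _ = x ^ i * (y ^ j * x ^ i') * y ^ j' * z ^ k * z ^ k' := by rw [hz k]; group
      _ = x ^ i * x ^ i' * y ^ j * (z ^ m * y ^ j') * z ^ k * z ^ k' := by rw [e1]; group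
      _ = _ := by rw [hz m]; group
  inv_mem' := by
    rintro _ ⟨i, j, k, rfl⟩
    obtain ⟨m, hm⟩ := h.comm_mem (y ^ (-j)) (x ^ (-i))
    replace hm : ⁅y ^ (-j), x ^ (-i)⁆ = z ^ m := hm.symm
    refine ⟨-i, -j, m - k, ?_⟩
    have hz : ∀ (n : ℤ) (g : P), z ^ n * g = g * z ^ n := fun n g =>
      (Commute.zpow_right (h.central g) n).eq.symm
    calc (x ^ i * y ^ j * z ^ k)⁻¹ = z ^ (-k) * (y ^ (-j) * x ^ (-i)) := by group
      _ = z ^ (-k) * (z ^ m * (x ^ (-i) * y ^ (-j))) := by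
          rw [← hm, commutatorElement_def]; group
      _ = z ^ (m - k) * (x ^ (-i) * y ^ (-j)) := by group
      _ = _ := hz _ _

theorem x_mem : x ∈ E h := ⟨1, 0, 0, by simp⟩
theorem y_mem : y ∈ E h := ⟨0, 1, 0, by simp⟩
theorem z_mem : z ∈ E h := ⟨0, 0, 1, by simp⟩

theorem zpow_normal {i j k : ℤ} (hc : x ^ i * y ^ j * z ^ k ∈ Subgroup.center P) :
    x ^ i * y ^ j * z ^ k = z ^ k := by
  obtain ⟨h1, h2⟩ := (mem_center_iff' h).1 hc
  obtain ⟨e1, e2⟩ := brk_zpows h i j k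
  rw [e1] at h1
  rw [e2] at h2
  obtain ⟨a, rfl⟩ := zpow_eq_one h h1
  obtain ⟨b, hb⟩ := zpow_eq_one h h2
  obtain rfl : j = (p : ℤ) * (-b) := by rw [mul_neg, ← hb, neg_neg]
  simp [zpow_mul, h.x_pow, y_pow h]

theorem exists_complement [Finite P] :
    ∃ A : Subgroup P, A ≤ Subgroup.center P ∧ z ∉ A ∧ ∀ u ∈ Subgroup.center P,
      ∃ a ∈ A, ∃ k : ℤ, u = a * z ^ k := by
  obtain ⟨A, ⟨hA, hzA⟩, hmax⟩ :=
    (Set.toFinite {A : Subgroup P | A ≤ Subgroup.center P ∧ z ∉ A}).exists_maximal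
      ⟨⊥, bot_le, fun hh => h.z_ne (Subgroup.mem_bot.1 hh)⟩
  refine ⟨A, hA, hzA, fun u hu => ?_⟩
  by_cases huA : u ∈ A
  · exact ⟨u, huA, 0, by simp⟩
  have hnot : z ∈ A ⊔ Subgroup.zpowers u := by
    by_contra hc
    exact huA (hmax ⟨sup_le hA (Subgroup.zpowers_le.2 hu), hc⟩ le_sup_left
      (Subgroup.mem_sup_right (Subgroup.mem_zpowers u)))
  haveI : A.Normal := ⟨fun a ha g => by
    rw [Subgroup.mem_center_iff.1 (hA ha) g, mul_inv_cancel_right]; exact ha⟩
  obtain ⟨a, ha, b, ⟨i, rfl⟩, hab⟩ := Subgroup.mem_sup_of_normal_left.1 hnot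
  change a * u ^ i = z at hab
  have hup : u ^ (p : ℤ) = 1 := by
    rw [zpow_natCast]; exact h.cy_pow u (Subgroup.mem_center_iff.1 hu y).symm
  by_cases hi : (p : ℤ) ∣ i
  · obtain ⟨c, rfl⟩ := hi
    rw [zpow_mul, hup, one_zpow, mul_one] at hab
    exact absurd (hab ▸ ha) hzA
  obtain ⟨s, t, hst⟩ :=
    ((Nat.prime_iff_prime_int.mp (Fact.out : p.Prime)).coprime_iff_not_dvd.mpr hi).symm
  refine ⟨(a ^ s)⁻¹, A.inv_mem (A.zpow_mem ha s), s, ?_⟩
  rw [← hab, (show Commute a (u ^ i) from (Subgroup.mem_center_iff.1 (hA ha) _).symm).mul_zpow]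
  have h1 : u ^ (i * s) = u := by
    calc u ^ (i * s) = u ^ (i * s) * u ^ ((p : ℤ) * t) := by rw [zpow_mul u (p : ℤ), hup, one_zpow, mul_one]
      _ = u ^ (1 : ℤ) := by rw [← zpow_add, mul_comm i, mul_comm (p : ℤ), hst]
      _ = u := zpow_one u
  rw [← zpow_mul, h1, inv_mul_cancel_left]

theorem center_E [Finite P] : Subgroup.center (E h) = (Subgroup.zpowers z).subgroupOf (E h) := by
  ext ⟨g, i, j, k, rfl⟩
  rw [Subgroup.mem_subgroupOf]
  constructor
  · intro hg
    have hc : x ^ i * y ^ j * z ^ k ∈ Subgroup.center P := by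
      refine (mem_center_iff' h).2 ⟨?_, ?_⟩ <;> rw [brk_apply, commutatorElement_eq_one_iff_mul_comm]
      · exact (congrArg Subtype.val (Subgroup.mem_center_iff.1 hg ⟨y, y_mem h⟩)).symm
      · exact (congrArg Subtype.val (Subgroup.mem_center_iff.1 hg ⟨x, x_mem h⟩)).symm
    exact ⟨k, (zpow_normal h hc).symm⟩
  · rintro ⟨m, hm⟩
    refine Subgroup.mem_center_iff.2 fun q => Subtype.ext ?_
    show (q : P) * (x ^ i * y ^ j * z ^ k) = x ^ i * y ^ j * z ^ k * q
    replace hm : z ^ m = x ^ i * y ^ j * z ^ k := hm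
    rw [← hm]
    exact (Commute.zpow_right (h.central q) m).eq

theorem card_E [Finite P] : Nat.card (E h) = p ^ 3 := by
  let f : Fin p × Fin p × Fin p → E h := fun v =>
    ⟨x ^ (v.1 : ℤ) * y ^ (v.2.1 : ℤ) * z ^ (v.2.2 : ℤ), _, _, _, rfl⟩
  have hbij : Function.Bijective f := by
    constructor
    · rintro ⟨a, b, c⟩ ⟨a', b', c'⟩ he
      replace he : x ^ (a : ℤ) * y ^ (b : ℤ) * z ^ (c : ℤ) = x ^ (a' : ℤ) * y ^ (b' : ℤ) * z ^ (c' : ℤ) :=
        congrArg Subtype.val he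
      have key : ∀ u v : Fin p, z ^ (u : ℤ) = z ^ (v : ℤ) → u = v := fun u v he' => by
        have h1 : z ^ (u : ℕ) = z ^ (v : ℕ) := by exact_mod_cast he'
        rw [pow_eq_pow_iff_modEq, z_order h] at h1
        exact Fin.ext (h1.eq_of_lt_of_lt u.2 v.2)
      have e1 : a = a' := key _ _ (by rw [← (brk_zpows h a b c).1, he, (brk_zpows h a' b' c').1])
      have e2 : b = b' := key _ _ (inv_injective (by
        rw [← zpow_neg, ← zpow_neg, ← (brk_zpows h a b c).2, he, (brk_zpows h a' b' c').2]))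
      subst e1 e2
      rw [key c c' (mul_left_cancel he)]
    · rintro ⟨g, i, j, k, rfl⟩
      have hp0 : (p : ℤ) ≠ 0 := Int.natCast_ne_zero.2 (Fact.out : p.Prime).ne_zero
      let r : ℤ → Fin p := fun a => ⟨(a % p).toNat, by
        have := Int.emod_lt_of_pos a (by exact_mod_cast (Fact.out : p.Prime).pos : (0 : ℤ) < p)
        have := Int.emod_nonneg a hp0
        omega⟩
      have hr : ∀ (g : P), g ^ p = 1 → ∀ a : ℤ, g ^ ((r a : ℕ) : ℤ) = g ^ a := by
        intro g hg a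
        show g ^ ((a % p).toNat : ℤ) = _
        rw [Int.toNat_of_nonneg (Int.emod_nonneg a hp0)]
        conv_rhs => rw [← Int.emod_add_mul_ediv a p, zpow_add, zpow_mul, zpow_natCast, hg, one_zpow, mul_one]
      refine ⟨(r i, r j, r k), Subtype.ext ?_⟩
      show x ^ ((r i : ℕ) : ℤ) * y ^ ((r j : ℕ) : ℤ) * z ^ ((r k : ℕ) : ℤ) = _
      rw [hr x h.x_pow, hr y (y_pow h), hr z (z_pow h)]
  rw [← Nat.card_eq_of_bijective f hbij]
  simp [pow_three]

/-- `P` is the product of `E` and an elementary abelian central subgroup. -/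
theorem split [Finite P] : ∃ A : Subgroup P, IsMulCommutative A ∧ (∀ a ∈ A, a ^ p = 1) ∧
    Nonempty (P ≃* E h × A) := by
  obtain ⟨A, hA, hzA, hdec⟩ := exists_complement h
  refine ⟨A, ⟨⟨fun a b => Subtype.ext (Subgroup.mem_center_iff.1 (hA b.2) a)⟩⟩,
    fun a ha => h.cy_pow a (Subgroup.mem_center_iff.1 (hA ha) y).symm, ⟨(MulEquiv.ofBijective
      ((E h).subtype.noncommCoprod A.subtype fun e a => Subgroup.mem_center_iff.1 (hA a.2) e) ⟨?_, ?_⟩).symm⟩⟩
  · rw [injective_iff_map_eq_one]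
    rintro ⟨⟨g, i, j, k, rfl⟩, a⟩ he
    replace he : x ^ i * y ^ j * z ^ k * (a : P) = 1 := he
    have hg : x ^ i * y ^ j * z ^ k ∈ Subgroup.center P := by
      rw [eq_inv_of_mul_eq_one_left he]; exact (Subgroup.center P).inv_mem (hA a.2)
    rw [zpow_normal h hg] at he
    have ha : (a : P) = z ^ (-k) := by rw [eq_inv_of_mul_eq_one_right he, zpow_neg]
    have hk : (p : ℤ) ∣ k := by
      by_contra hk
      obtain ⟨s, t, hst⟩ :=
        ((Nat.prime_iff_prime_int.mp (Fact.out : p.Prime)).coprime_iff_not_dvd.mpr hk).symm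
      refine hzA ?_
      have h1 : z = (z ^ (-k)) ^ (-s) := by
        rw [← zpow_mul, neg_mul_neg]
        calc z = z ^ (s * k + t * (p : ℤ)) := by rw [hst, zpow_one]
          _ = z ^ (k * s) := by rw [zpow_add, mul_comm t, zpow_mul z (p : ℤ), zpow_natCast, z_pow h, one_zpow,
              mul_one, mul_comm s]
      rw [h1, ← ha]
      exact A.zpow_mem a.2 _
    obtain ⟨c, rfl⟩ := hk
    have hz1 : z ^ ((p : ℤ) * c) = 1 := by rw [zpow_mul, zpow_natCast, z_pow h, one_zpow]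
    refine Prod.ext (Subtype.ext ((zpow_normal h hg).trans hz1)) (Subtype.ext ?_)
    rw [ha, zpow_neg, hz1, inv_one]
    rfl
  · intro g
    obtain ⟨i, hi⟩ := h.comm_mem g y
    obtain ⟨j, hj⟩ := h.comm_mem g x
    set e := x ^ i * y ^ (-j) * z ^ (0 : ℤ) with he
    obtain ⟨h1, h2⟩ := brk_zpows h i (-j) 0
    have hu : e⁻¹ * g ∈ Subgroup.center P := by
      refine (mem_center_iff' h).2 ⟨?_, ?_⟩ <;> rw [map_mul, map_inv]
      · rw [he, h1, brk_apply, ← show z ^ i = ⁅g, y⁆ from hi, inv_mul_cancel]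
      · rw [he, h2, brk_apply, ← show z ^ j = ⁅g, x⁆ from hj, neg_neg, inv_mul_cancel]
    obtain ⟨a, ha, k, hk⟩ := hdec _ hu
    refine ⟨⟨⟨e * z ^ k, (E h).mul_mem ⟨i, -j, 0, rfl⟩ ((E h).zpow_mem (z_mem h) k)⟩, ⟨a, ha⟩⟩, ?_⟩
    show e * z ^ k * a = g
    rw [mul_assoc, ← Subgroup.mem_center_iff.1 (hA ha) (z ^ k) |>.symm, ← hk, mul_inv_cancel_left]

theorem isExtraspecial_E [Finite P] (hP : IsPGroup p P) (hexp : ∀ g : P, g ^ p = 1) :
    Cfsg.IsExtraspecial p (E h) ∧ Monoid.exponent (E h) = p := by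
  have hE : IsPGroup p (E h) := hP.to_subgroup _
  have hcen := center_E h
  have hcomm : commutator (E h) = Subgroup.center (E h) := by
    refine le_antisymm ?_ ?_
    · rw [hcen, commutator_def, Subgroup.commutator_le]
      exact fun a _ b _ => Subgroup.mem_subgroupOf.2 (h.comm_mem a b)
    · rw [hcen]
      rintro ⟨g, hg⟩ ⟨m, rfl⟩
      rw [show (⟨_, hg⟩ : E h) = (⁅(⟨x, x_mem h⟩ : E h), ⟨y, y_mem h⟩⁆) ^ m from Subtype.ext (by
        rw [Subgroup.coe_zpow]; exact congrArg (· ^ m) h.comm.symm)]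
      exact Subgroup.zpow_mem _ (Subgroup.commutator_mem_commutator (Subgroup.mem_top _) (Subgroup.mem_top _)) m
  have hfr : frattini (E h) = Subgroup.center (E h) := le_antisymm
    (Cfsg.Agent.Lib.PGroups.frattini_le_of_pow_commutator (Subgroup.center (E h))
      (fun g => by rw [show g ^ p = 1 from Subtype.ext (hexp g)]; exact one_mem _) hcomm.le)
    (hcomm.ge.trans (Cfsg.Agent.Lib.PGroups.commutator_le_frattini hE))
  refine ⟨⟨⟨hE, hfr, hcomm⟩, ?_⟩, ?_⟩
  · rw [hcen, Nat.card_congr (Subgroup.subgroupOfEquivOfLe (Subgroup.zpowers_le.2 (z_mem h))).toEquiv,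
      Nat.card_zpowers, z_order h]
  · rcases (Nat.dvd_prime (Fact.out : p.Prime)).1
      (Monoid.exponent_dvd_of_forall_pow_eq_one fun g : E h => Subtype.ext (hexp g)) with h1 | h1
    · exact absurd (congrArg Subtype.val
        ((Monoid.exp_eq_one_iff.1 h1).elim (⟨z, z_mem h⟩ : E h) 1)) h.z_ne
    · exact h1

end Cfsg.Agent.Lib.FusionP3.GenExtra
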