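import Mathlib

/-!
Two transvections of an elementary abelian `p`-group with different centres.
-/

set_option autoImplicit false
set_option linter.unusedSectionVars false

namespace Cfsg.Agent.Lib.FusionP3.GenExtra.Transvection

variable {C : Type*} [CommGroup C] {p : ℕ} [Fact p.Prime]

/-- iterating a transvection -/
theorem pow_apply (t : MulAut C) {c e : C} (hc : t c = e * c) (he : t e = e) :
    ∀ n : ℕ, (t ^ n) c = e ^ n * c := by
  intro n
  induction n with
  | zero => simp
  | succ n ih => rw [pow_succ', MulAut.mul_apply, ih, map_mul, map_pow, he, hc, pow_succ, mul_assoc]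

theorem fix_of_mem {t : MulAut C} {z e : C} (hz : t z = z) (he : e ∈ Subgroup.zpowers z) : t e = e := by
  obtain ⟨m, rfl⟩ := he
  show t (z ^ m) = z ^ m
  rw [map_zpow, hz]

theorem pow_prime {t : MulAut C} {z : C} (hz : t z = z) (hzp : z ^ p = 1)
    (hC : ∀ c, ∃ e ∈ Subgroup.zpowers z, t c = e * c) : t ^ p = 1 := by
  refine MulEquiv.ext fun c => ?_
  obtain ⟨e, he, hc⟩ := hC c
  rw [pow_apply t hc (fix_of_mem hz he) p, MulAut.one_apply]
  obtain ⟨m, rfl⟩ := he
  show (z ^ m) ^ p * c = c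
  rw [← zpow_natCast, ← zpow_mul, mul_comm m, zpow_mul, zpow_natCast, hzp, one_zpow, one_mul]

variable (t t' : MulAut C) {z y : C} (hzp : z ^ p = 1) (hz1 : z ≠ 1) (hy1 : y ≠ 1) (hyp : y ^ p = 1)
  (htz : t z = z) (hty : t y = z * y) (htC : ∀ c, ∃ e ∈ Subgroup.zpowers z, t c = e * c)
  (ht'y : t' y = y) (ht'C : ∀ c, ∃ e ∈ Subgroup.zpowers y, t' c = e * c)
include hzp hz1 hyp hy1 htz hty htC ht'y ht'C

/-- If `t'` fixes the centre of `t`, then `t` and `t' t t'⁻¹` commute and are independent. -/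
theorem fixed_case (hfix : t' z = z) (hne : t' ≠ 1) :
    Commute t (t' * t * t'⁻¹) ∧ t ^ p = 1 ∧ t' * t * t'⁻¹ ∉ Subgroup.zpowers t := by
  set t'' := t' * t * t'⁻¹ with ht''
  have hz'' : t'' z = z := by
    rw [ht'', MulAut.mul_apply, MulAut.mul_apply]
    have : (t'⁻¹) z = z := by nth_rewrite 1 [← hfix]; exact MulAut.inv_apply_self _ t' z
    rw [this, htz, hfix]
  have hC'' : ∀ c, ∃ e ∈ Subgroup.zpowers z, t'' c = e * c := by
    intro c
    obtain ⟨e, he, hc⟩ := htC (t'⁻¹ c)
    refine ⟨e, he, ?_⟩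
    rw [ht'', MulAut.mul_apply, MulAut.mul_apply, hc, map_mul, MulAut.apply_inv_self,
      fix_of_mem hfix he]
  refine ⟨?_, pow_prime htz hzp htC, fun hmem => ?_⟩
  · refine MulEquiv.ext fun c => ?_
    obtain ⟨e, he, hc⟩ := htC c
    obtain ⟨e', he', hc'⟩ := hC'' c
    show t (t'' c) = t'' (t c)
    rw [hc', map_mul, fix_of_mem htz he', hc, map_mul,
      fix_of_mem hz'' he, hc']
    exact mul_left_comm _ _ _
  · obtain ⟨n, hn⟩ : ∃ n : ℕ, t ^ n = t'' := by
      obtain ⟨m, hm⟩ := hmem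
      have hord : IsOfFinOrder t := isOfFinOrder_iff_pow_eq_one.2
        ⟨p, (Fact.out : p.Prime).pos, pow_prime htz hzp htC⟩
      exact hord.mem_powers_iff_mem_zpowers.2 ⟨m, hm⟩
    have hy'' : t'' y = z * y := by
      rw [ht'', MulAut.mul_apply, MulAut.mul_apply]
      have : (t'⁻¹) y = y := by nth_rewrite 1 [← ht'y]; exact MulAut.inv_apply_self _ t' y
      rw [this, hty, map_mul, hfix, ht'y]
    have hzn : z ^ n = z := by
      have h1 := pow_apply t hty htz n
      rw [hn, hy''] at h1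
      exact (mul_right_cancel h1).symm
    have ht''t : t'' = t := by
      refine MulEquiv.ext fun c => ?_
      obtain ⟨e, he, hc⟩ := htC c
      rw [← hn, pow_apply t hc (fix_of_mem htz he), hc]
      obtain ⟨m, rfl⟩ := he
      show (z ^ m) ^ n * c = z ^ m * c
      rw [← zpow_natCast, ← zpow_mul, mul_comm m, zpow_mul, zpow_natCast, hzn]
    refine hne (MulEquiv.ext fun c => ?_)
    have hcomm : t' * t = t * t' := by
      have := congrArg (· * t') ht''t
      simpa [ht'', mul_assoc] using this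
    obtain ⟨a, ha, hc⟩ := htC c
    obtain ⟨e, he, hc'⟩ := ht'C c
    have h1 := congrArg (fun f : MulAut C => f c) hcomm
    simp only [MulAut.mul_apply] at h1
    rw [hc, map_mul, fix_of_mem hfix ha, hc', map_mul, hc] at h1
    obtain ⟨j, rfl⟩ := he
    change a * (y ^ j * c) = t (y ^ j) * (a * c) at h1
    rw [map_zpow, hty, mul_zpow, MulAut.one_apply] at *
    have h2 : z ^ j = 1 := by
      have h3 : (1 : C) * (y ^ j * (a * c)) = z ^ j * (y ^ j * (a * c)) := by
        rw [one_mul, ← mul_assoc (z ^ j), ← h1, mul_left_comm a]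
      exact (mul_right_cancel h3).symm
    obtain ⟨i, rfl⟩ : (p : ℤ) ∣ j := by
      rw [← orderOf_eq_prime hzp hz1]; exact orderOf_dvd_iff_zpow_eq_one.2 h2
    rw [hc']
    show y ^ ((p : ℤ) * i) * c = c
    rw [zpow_mul, zpow_natCast, hyp, one_zpow, one_mul]

/-- Otherwise some product inverts the centre and commutes with `t`. -/
theorem moving_case (hmove : t' z ≠ z) :
    ∃ α ∈ Subgroup.closure ({t, t'} : Set (MulAut C)), α z = z⁻¹ ∧ Commute α t := by
  obtain ⟨e, he, hez⟩ := ht'C z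
  have he1 : e ≠ 1 := fun h => hmove (by rw [hez, h, one_mul])
  have hep : orderOf e = p := by
    refine orderOf_eq_prime ?_ he1
    obtain ⟨m, rfl⟩ := he
    show (y ^ m) ^ p = 1
    rw [← zpow_natCast, ← zpow_mul, mul_comm, zpow_mul, zpow_natCast, hyp, one_zpow]
  have hye : Subgroup.zpowers e = Subgroup.zpowers y := by
    haveI : Finite (Subgroup.zpowers y) := Nat.finite_of_card_ne_zero (by
      rw [Nat.card_zpowers, orderOf_eq_prime hyp hy1]; exact (Fact.out : p.Prime).ne_zero)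
    exact Subgroup.eq_of_le_of_card_ge (Subgroup.zpowers_le.2 he)
      (by rw [Nat.card_zpowers, Nat.card_zpowers, hep, orderOf_eq_prime hyp hy1])
  obtain ⟨k, hk⟩ : ∃ k : ℕ, e ^ k = y⁻¹ := by
    refine (isOfFinOrder_iff_pow_eq_one.2 ⟨p, (Fact.out : p.Prime).pos, hep ▸ pow_orderOf_eq_one e⟩).mem_powers_iff_mem_zpowers.2 ?_
    rw [hye]
    exact (Subgroup.zpowers y).inv_mem (Subgroup.mem_zpowers y)
  set t₁ := t' ^ k with ht₁
  have h1y : t₁ y = y := by
    rw [ht₁, pow_apply t' (e := 1) (by rw [ht'y, one_mul]) (map_one t') k]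
    simp
  have h1z : t₁ z = y⁻¹ * z := by rw [ht₁, pow_apply t' hez (fix_of_mem ht'y he) k, hk]
  set w := t * t₁ * t with hw
  have hwz : w z = y⁻¹ := by
    rw [hw, MulAut.mul_apply, MulAut.mul_apply, htz, h1z, map_mul, map_inv, hty, htz, mul_inv_rev,
      mul_assoc, inv_mul_cancel, mul_one]
  have hwy : w y = z := by
    rw [hw, MulAut.mul_apply, MulAut.mul_apply, hty, map_mul, h1z, h1y, mul_comm y⁻¹, mul_assoc,
      inv_mul_cancel, mul_one, htz]
  refine ⟨w * w, ?_, ?_, ?_⟩
  · have ht : t ∈ Subgroup.closure ({t, t'} : Set (MulAut C)) := Subgroup.subset_closure (Or.inl rfl)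
    have ht' : t' ∈ Subgroup.closure ({t, t'} : Set (MulAut C)) := Subgroup.subset_closure (Or.inr rfl)
    exact mul_mem (mul_mem (mul_mem ht (pow_mem ht' k)) ht) (mul_mem (mul_mem ht (pow_mem ht' k)) ht)
  · rw [MulAut.mul_apply, hwz, map_inv, hwy]
  · have haz : (w * w) z = z⁻¹ := by rw [MulAut.mul_apply, hwz, map_inv, hwy]
    have hay : (w * w) y = y⁻¹ := by rw [MulAut.mul_apply, hwy, hwz]
    refine MulEquiv.ext fun c => ?_
    obtain ⟨a, ha, hc⟩ := htC c
    obtain ⟨i, rfl⟩ := ha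
    change t c = z ^ i * c at hc
    set d := c * y ^ (-i) with hd
    have htd : t d = d := by
      rw [hd, map_mul, map_zpow, hty, hc, mul_zpow, mul_mul_mul_comm, ← zpow_add, add_neg_cancel,
        zpow_zero, one_mul]
    obtain ⟨b, hb, hdb⟩ := ht'C d
    rw [← hye] at hb
    obtain ⟨l, rfl⟩ := hb
    change t' d = e ^ l * d at hdb
    set d' := d * z ^ (-l) with hd'
    have htd' : t d' = d' := by rw [hd', map_mul, map_zpow, htd, htz]
    have ht'd' : t' d' = d' := by
      rw [hd', map_mul, map_zpow, hdb, hez, mul_zpow, mul_mul_mul_comm, ← zpow_add, add_neg_cancel,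
        zpow_zero, one_mul]
    have had : (w * w) d' = d' := by
      have h1 : t₁ d' = d' := by
        rw [ht₁, pow_apply t' (e := 1) (by rw [ht'd', one_mul]) (map_one t') k]; simp
      simp only [hw, MulAut.mul_apply, htd', h1]
    have hcd : c = d' * z ^ l * y ^ i := by rw [hd', hd]; group
    show (w * w) (t c) = t ((w * w) c)
    rw [hcd]
    simp only [map_mul, map_zpow, haz, hay, had, hty, htz, htd']
    simp only [map_inv, hty, htz, mul_inv, mul_zpow, inv_zpow']

end Cfsg.Agent.Lib.FusionP3.GenExtra.Transvection
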