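import Mathlib
import Cfsg.Agent.Lib.FusionP3.GenExtra.Split
import Cfsg.Agent.Lib.FusionP3.GenExtra.Transvection
import Cfsg.Agent.Lib.FusionP3.Induction
import Cfsg.Agent.Lib.FusionP3.StronglyClosed
import Cfsg.Agent.Lib.FusionSystem.Normal
import Cfsg.Agent.Lib.PGroups.MaxAbelian

/-!
A strongly closed `P` with `Φ(P) = P'` of order `p` is normal, unless it splits off a dihedral group of
order eight, resp. an extraspecial group of order `p³` and exponent `p`.
-/

set_option autoImplicit false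
set_option linter.style.haveILetI false
set_option linter.unusedSectionVars false

namespace Cfsg.Agent.Lib.FusionP3.GenExtra

open Cfsg Cfsg.FusionSystem Cfsg.Agent.Lib.FS
open Cfsg.Agent.Lib.FusionP3.Induction Cfsg.Agent.Lib.FusionP3.StronglyClosed
open scoped commutatorElement

theorem center_of_card {P : Type*} [Group P] [Finite P] {p : ℕ} [Fact p.Prime] (hP : IsPGroup p P)
    (hcard : Nat.card (commutator P) = p) :
    ∀ u ∈ commutator P, ∀ g : P, g * u = u * g := by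
  intro u hu g
  exact Subgroup.mem_center_iff.1
    (Cfsg.Agent.Lib.PGroups.le_center_of_normal_card_prime hP (commutator P) hcard hu) g

variable {Ω : Type*} [Group Ω] {S : Subgroup Ω} [Finite S] {p : ℕ} [Fact p.Prime] {F : FusionSystem S}

/-- Either `P` has the exceptional structure or its derived group is weakly closed. -/
theorem weaklyClosed_or_data (hS : IsPGroup p S) (hF : F.IsSaturated p) {P : Subgroup Ω}
    (hP : F.StronglyClosed P) (hfr : frattini ↥P = commutator ↥P) (hcard : Nat.card ↥(commutator ↥P) = p) :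
    F.WeaklyClosed ((commutator ↥P).map P.subtype) ∨
      ∃ x y z : ↥P, Data p x y z ∧ (p ≠ 2 → ∀ g : ↥P, g ^ p = 1) := by
  classical
  have hpp := (Fact.out : p.Prime)
  haveI := finite_sub hP.1
  have hPp : IsPGroup p ↥P := isPGroup_of_le hS hP.1
  set Z : Subgroup Ω := (commutator ↥P).map P.subtype with hZdef
  have hZP : Z ≤ P := Subgroup.map_subtype_le _
  have hZS : Z ≤ S := hZP.trans hP.1
  haveI := finite_sub hZS
  have hZcard : Nat.card Z = p := by
    rw [hZdef, Subgroup.card_map_of_injective P.subtype_injective, hcard]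
  have hcm : ∀ a b : ↥P, ⁅a, b⁆ ∈ commutator ↥P := fun a b =>
    Subgroup.commutator_mem_commutator (Subgroup.mem_top a) (Subgroup.mem_top b)
  have hpm : ∀ a : ↥P, a ^ p ∈ commutator ↥P := fun a => hfr ▸ Cfsg.Agent.Lib.PGroups.pow_mem_frattini hPp a
  have hzc := center_of_card hPp hcard
  have hgen : ∀ u ∈ commutator ↥P, u ≠ 1 → ∀ v ∈ commutator ↥P, v ∈ Subgroup.zpowers u := by
    intro u hu hu1 v hv
    refine (Subgroup.eq_of_le_of_card_ge (Subgroup.zpowers_le.2 hu) ?_).ge hv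
    rw [hcard, Nat.card_zpowers]
    obtain ⟨c, hc⟩ := IsPGroup.iff_orderOf.1 hPp u
    rw [hc]
    refine Nat.le_self_pow ?_ p
    rintro rfl
    rw [pow_zero, orderOf_eq_one_iff] at hc
    exact hu1 hc
  by_contra hcon
  push Not at hcon
  obtain ⟨hW, hdata⟩ := hcon
  obtain ⟨φ, hφ, hφZ⟩ : ∃ φ ∈ F.Hom Z, φ.range ≠ Z := by
    by_contra hh
    push Not at hh
    exact hW ⟨hZS, hh⟩
  set Y := φ.range with hY
  have hYP : Y ≤ P := by
    rintro _ ⟨w, rfl⟩; exact apply_mem_of_stronglyClosed hP hφ w (hZP w.2)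
  haveI := finite_sub (hYP.trans hP.1)
  have hYcard : Nat.card Y = p := by rw [hY, card_range hφ, hZcard]
  -- `Z` is normal in `S`, hence fully normalized
  have hZn : ∀ g ∈ S, ∀ x ∈ Z, g * x * g⁻¹ ∈ Z := by
    intro g hg x hx
    have hgP : g ∈ Subgroup.normalizer (P : Set Ω) :=
      mem_normalizer_of_conj_mem fun y hy => conj_mem_of_stronglyClosed hP hg hy
    obtain ⟨u, hu, rfl⟩ := hx
    exact ⟨(P.normalizerMonoidHom ⟨g, hgP⟩) u,
      Subgroup.characteristic_iff_comap_eq.1 inferInstance (P.normalizerMonoidHom ⟨g, hgP⟩) |>.ge hu, rfl⟩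
  haveI : Finite (normalizerIn S Z) := finite_sub (normalizerIn_le Z)
  have hZfn : F.IsFullyNormalized Z := ⟨hZS, fun Q _ => Subgroup.card_le_of_le
    (le_inf inf_le_left (inf_le_left.trans (Subgroup.le_normalizer_iff.2 fun g hg y hy => hZn g hg y hy)))⟩
  obtain ⟨ψ, hψ, -, hψY⟩ := exists_normalizer_map hS hF hZfn (isConj_symm ⟨φ, hφ, rfl⟩)
  obtain ⟨y₀, hy₀, hy₀1⟩ : ∃ y₀ ∈ Y, y₀ ≠ 1 := by
    by_contra hh
    push Not at hh
    rw [(Subgroup.eq_bot_iff_forall Y).2 hh, Subgroup.card_bot] at hYcard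
    exact hpp.one_lt.ne hYcard
  set y : ↥P := ⟨y₀, hYP hy₀⟩ with hy
  have hy1 : y ≠ 1 := fun h => hy₀1 (congrArg Subtype.val h)
  have hYgen : ∀ w ∈ Y, w ∈ Subgroup.zpowers y₀ := fun w hw => by
    refine (Subgroup.eq_of_le_of_card_ge (Subgroup.zpowers_le.2 hy₀) ?_).ge hw
    rw [hYcard, Nat.card_zpowers]
    obtain ⟨c, hc⟩ := IsPGroup.iff_orderOf.1 (hPp.of_injective (Subgroup.inclusion hYP)
      (Subgroup.inclusion_injective hYP)) ⟨y₀, hy₀⟩
    rw [← Subgroup.orderOf_coe] at hc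
    rw [hc]
    refine Nat.le_self_pow ?_ p
    rintro rfl
    rw [pow_zero, orderOf_eq_one_iff] at hc
    exact hy₀1 hc
  have hyp : y ^ p = 1 := by
    have h1 : (⟨y₀, hy₀⟩ : Y) ^ Nat.card Y = 1 := pow_card_eq_one'
    rw [hYcard] at h1
    exact Subtype.ext (congrArg (fun w : Y => (w : Ω)) h1 :)
  -- `C_P(y)`
  set C : Subgroup Ω := P ⊓ Subgroup.centralizer ({y₀} : Set Ω) with hC
  have hCP : C ≤ P := inf_le_left
  have hCS : C ≤ S := hCP.trans hP.1
  haveI := finite_sub hCS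
  have hmemC : ∀ g : ↥P, (g : Ω) ∈ C ↔ g * y = y * g := fun g => by
    rw [hC, Subgroup.mem_inf, Subgroup.mem_centralizer_singleton_iff]
    exact ⟨fun h => Subtype.ext h.2, fun h => ⟨g.2, congrArg Subtype.val h⟩⟩
  have hCN : C ≤ normalizerIn S Y := by
    refine le_inf hCS fun g hg => ?_
    refine mem_normalizer_of_conj_mem fun w hw => ?_
    obtain ⟨i, rfl⟩ := hYgen w hw
    have h1 : Commute g (y₀ ^ i) :=
      (Subgroup.mem_centralizer_singleton_iff.1 hg.2 : g * y₀ = y₀ * g) |> fun h => Commute.zpow_right h i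
    rw [h1.eq, mul_inv_cancel_right]
    exact Y.zpow_mem hy₀ i
  have hψy : ψ ⟨y₀, hCN ⟨hYP hy₀, Subgroup.mem_centralizer_singleton_iff.2 rfl⟩⟩ ∈ Z :=
    hψY.le ⟨_, Subgroup.mem_subgroupOf.2 hy₀, rfl⟩
  obtain ⟨β₀, hβ₀, hβe⟩ := exists_restrict hψ hCN
  have hβP : ∀ c, β₀ c ∈ P := fun c => apply_mem_of_stronglyClosed hP hβ₀ c (hCP c.2)
  have hyC : y₀ ∈ C := ⟨hYP hy₀, Subgroup.mem_centralizer_singleton_iff.2 rfl⟩
  let βP : C →* ↥P := β₀.codRestrict P hβP
  have hβy : βP ⟨y₀, hyC⟩ ∈ commutator ↥P := by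
    have h1 : β₀ ⟨y₀, hyC⟩ ∈ Z := by rw [hβe]; exact hψy
    obtain ⟨u, hu, hue⟩ := h1
    rw [show βP ⟨y₀, hyC⟩ = u from Subtype.ext hue.symm]; exact hu
  -- nothing nontrivial in `C ∩ Z` stays in `Z`
  have hstay : ∀ u : C, (⟨u, hCP u.2⟩ : ↥P) ∈ commutator ↥P → βP u ∈ commutator ↥P → u = 1 := by
    intro u hu hbu
    by_contra hu1
    have hbu1 : βP u ≠ 1 := fun h =>
      hu1 (F.injective_of_mem hβ₀ ((congrArg Subtype.val h).trans (map_one β₀).symm))
    obtain ⟨i, hi⟩ := hgen _ hbu hbu1 _ hβy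
    have h1 : (⟨y₀, hyC⟩ : C) = u ^ i := by
      refine F.injective_of_mem hβ₀ ?_
      rw [map_zpow]
      exact (congrArg Subtype.val hi).symm
    have hyZ : y₀ ∈ Z := by
      rw [show y₀ = (u : Ω) ^ i from congrArg Subtype.val h1]
      exact Z.zpow_mem ⟨_, hu, rfl⟩ i
    refine hφZ (Subgroup.eq_of_le_of_card_ge (fun w hw => ?_) (by rw [hYcard, hZcard]))
    obtain ⟨j, rfl⟩ := hYgen w hw
    exact Z.zpow_mem hyZ j
  have habel : ∀ g g' : ↥P, g * y = y * g → g' * y = y * g' → g * g' = g' * g := by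
    intro g g' hg hg'
    set a : C := ⟨g, (hmemC g).2 hg⟩
    set b : C := ⟨g', (hmemC g').2 hg'⟩
    have h1 := hstay ⁅a, b⁆ (hcm g g') (by
      rw [map_commutatorElement]; exact hcm _ _)
    rw [commutatorElement_eq_one_iff_mul_comm] at h1
    exact Subtype.ext (congrArg (fun w : C => (w : Ω)) h1 :)
  have hCpow : ∀ g : ↥P, g * y = y * g → g ^ p = 1 := by
    intro g hg
    have h1 := hstay ((⟨g, (hmemC g).2 hg⟩ : C) ^ p) (hpm g) (by rw [map_pow]; exact hpm _)
    exact Subtype.ext (congrArg (fun w : C => (w : Ω)) h1 :)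
  obtain ⟨x, hx⟩ : ∃ x : ↥P, x * y ≠ y * x := by
    by_contra hh
    push Not at hh
    have : commutator ↥P = ⊥ := by
      rw [eq_bot_iff, commutator_def, Subgroup.commutator_le]
      exact fun a _ b _ => Subgroup.mem_bot.2
        (commutatorElement_eq_one_iff_mul_comm.2 (habel a b (hh a) (hh b)))
    rw [this, Subgroup.card_bot] at hcard
    exact hpp.one_lt.ne hcard
  set z := ⁅x, y⁆ with hzdef
  have hz1 : z ≠ 1 := fun h => hx (commutatorElement_eq_one_iff_mul_comm.1 h)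
  have hzgen : ∀ a b : ↥P, ⁅a, b⁆ ∈ Subgroup.zpowers z := fun a b => hgen z (hcm x y) hz1 _ (hcm a b)
  have hzcen : ∀ g : ↥P, g * z = z * g := hzc z (hcm x y)
  have hzp : z ^ p = 1 := hCpow z (hzcen y).symm
  -- mkData
  have mkData : ∀ x' : ↥P, ⁅x', y⁆ = z → x' ^ p = 1 → (p ≠ 2 → ∀ g : ↥P, g ^ p = 1) → False := by
    intro x' h1 h2 h3
    obtain ⟨g, hg⟩ := hdata x' y z ⟨h1, hz1, hzcen, hzgen, h2, habel, hCpow⟩ |>.2
    exact hg (h3 (hdata x' y z ⟨h1, hz1, hzcen, hzgen, h2, habel, hCpow⟩).1 g)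
  -- the decomposition of `P`
  have hdec : ∀ g : ↥P, ∃ i : ℤ, (x ^ (-i) * g) * y = y * (x ^ (-i) * g) := by
    intro g
    obtain ⟨i, hi⟩ := hzgen g y
    refine ⟨i, ?_⟩
    have hconj : ∀ m : ℤ, x ^ m * y * (x ^ m)⁻¹ = z ^ m * y := by
      intro m
      induction m using Int.induction_on with
      | zero => simp
      | succ n ih =>
        rw [zpow_add_one, zpow_add_one, mul_assoc (z ^ (n : ℤ))]
        calc x ^ (n : ℤ) * x * y * (x ^ (n : ℤ) * x)⁻¹
            = x ^ (n : ℤ) * (x * y * x⁻¹ * y⁻¹) * (y * (x ^ (n : ℤ))⁻¹) := by group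
          _ = z * (x ^ (n : ℤ) * y * (x ^ (n : ℤ))⁻¹) := by
              rw [show x * y * x⁻¹ * y⁻¹ = z from rfl, hzcen]; group
          _ = _ := by rw [ih, ← mul_assoc, ← mul_assoc, hzcen (z ^ (n : ℤ))]
      | pred n ih =>
        have h0 : x⁻¹ * y * x = z⁻¹ * y := by
          calc x⁻¹ * y * x = x⁻¹ * (x * y * x⁻¹ * y⁻¹)⁻¹ * x * y := by group
            _ = x⁻¹ * z⁻¹ * x * y := rfl
            _ = z⁻¹ * (x⁻¹ * x) * y := by
                rw [(Commute.inv_right (hzcen x⁻¹)).eq]; group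
            _ = _ := by group
        rw [zpow_sub_one, zpow_sub_one]
        calc x ^ (-(n : ℤ)) * x⁻¹ * y * (x ^ (-(n : ℤ)) * x⁻¹)⁻¹
            = x ^ (-(n : ℤ)) * (x⁻¹ * y * x) * (x ^ (-(n : ℤ)))⁻¹ := by group
          _ = z⁻¹ * (x ^ (-(n : ℤ)) * y * (x ^ (-(n : ℤ)))⁻¹) := by
              rw [h0, ← mul_assoc (x ^ (-(n : ℤ))), (Commute.inv_right (hzcen (x ^ (-(n : ℤ))))).eq]; group
          _ = _ := by
              rw [ih, ← mul_assoc]
              exact congrArg (· * y) (Commute.zpow_right (Commute.inv_left (Commute.refl z)) _).eq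
    have h2 : g * y * g⁻¹ = x ^ i * y * (x ^ i)⁻¹ := by
      rw [hconj]
      have : z ^ i = g * y * g⁻¹ * y⁻¹ := hi.trans (commutatorElement_def _ _)
      rw [this]; group
    calc x ^ (-i) * g * y = x ^ (-i) * (g * y * g⁻¹) * g := by group
      _ = x ^ (-i) * (x ^ i * y * (x ^ i)⁻¹) * g := by rw [h2]
      _ = _ := by group
  by_cases hexp : x ^ p = 1 ∧ (p ≠ 2 → ∀ g : ↥P, g ^ p = 1)
  · exact mkData x rfl hexp.1 hexp.2
  by_cases hp2 : p = 2
  · subst hp2
    refine mkData (x * y) ?_ ?_ (fun h => absurd rfl h)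
    · calc ⁅x * y, y⁆ = x * y * y * (y⁻¹ * x⁻¹) * y⁻¹ := by rw [commutatorElement_def]; group
        _ = z := by rw [hzdef, commutatorElement_def]; group
    · have hx2 : x ^ 2 ≠ 1 := fun h => hexp ⟨h, fun h => absurd rfl h⟩
      have hzx : x ^ 2 = z := by
        obtain ⟨i, hi⟩ := hgen z (hcm x y) hz1 _ (hpm x)
        change z ^ i = x ^ 2 at hi
        rcases Int.even_or_odd i with ⟨m, rfl⟩ | ⟨m, rfl⟩
        · exact absurd (hi.symm.trans (by rw [← two_mul, zpow_mul, zpow_two, ← pow_two, hzp, one_zpow])) hx2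
        · rw [← hi, zpow_add, zpow_mul, zpow_two, ← pow_two, hzp, one_zpow, one_mul, zpow_one]
      calc (x * y) ^ 2 = x * (y * x) * y := by rw [pow_two]; group
        _ = x * (z⁻¹ * x * y) * y := by rw [show y * x = z⁻¹ * x * y by rw [hzdef, commutatorElement_def]; group]
        _ = z⁻¹ * (x * x) * (y * y) := by
            rw [← mul_assoc x, ← mul_assoc x, (Commute.inv_right (hzcen x)).eq]; group
        _ = 1 := by rw [← pow_two, ← pow_two, hzx, hyp, inv_mul_cancel, one_mul]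
  -- `C = Ω₁(P)`
  have hodd : Odd p := hpp.odd_of_ne_two hp2
  have hpowmul : ∀ a b : ↥P, (a * b) ^ p = a ^ p * b ^ p := by
    intro a b
    rw [Cfsg.Agent.Lib.PGroups.mul_pow_of_central_commutator a b (hzc _ (hcm b a) a) (hzc _ (hcm b a) b) p]
    obtain ⟨i, hi⟩ := hzgen b a
    change z ^ i = ⁅b, a⁆ at hi
    obtain ⟨d, hd⟩ := hpp.dvd_choose_self (by norm_num : 2 ≠ 0)
      (lt_of_le_of_ne hpp.two_le (Ne.symm hp2))
    rw [← hi, hd, pow_mul, ← zpow_natCast (z ^ i), ← zpow_mul, mul_comm i, zpow_mul, zpow_natCast, hzp,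
      one_zpow, one_pow, mul_one]
  have hxp : x ^ p ≠ 1 := by
    intro h
    refine hexp ⟨h, fun _ g => ?_⟩
    obtain ⟨i, hi⟩ := hdec g
    have := hpowmul (x ^ i) (x ^ (-i) * g)
    rw [← mul_assoc, ← zpow_add, add_neg_cancel, zpow_zero, one_mul, hCpow _ hi, mul_one] at this
    rw [this, ← zpow_natCast, ← zpow_mul, mul_comm, zpow_mul, zpow_natCast, h, one_zpow]
  have homega : ∀ g : ↥P, g ^ p = 1 → g * y = y * g := by
    intro g hg
    obtain ⟨i, hi⟩ := hdec g
    have h1 := hpowmul (x ^ i) (x ^ (-i) * g)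
    rw [← mul_assoc, ← zpow_add, add_neg_cancel, zpow_zero, one_mul, hCpow _ hi, mul_one, hg,
      ← zpow_natCast, ← zpow_mul, mul_comm, zpow_mul, zpow_natCast] at h1
    have hord : orderOf (x ^ p) = p := orderOf_eq_prime (hCpow (x ^ p) (hzc _ (hpm x) y).symm) hxp
    obtain ⟨m, rfl⟩ : (p : ℤ) ∣ i := by
      rw [← hord]; exact orderOf_dvd_iff_zpow_eq_one.2 h1.symm
    rw [zpow_neg, zpow_mul, zpow_natCast] at hi
    have h2 : Commute ((x ^ p) ^ m) y := Commute.zpow_left (hzc _ (hpm x) y).symm m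
    calc g * y = (x ^ p) ^ m * (((x ^ p) ^ m)⁻¹ * g * y) := by group
      _ = (x ^ p) ^ m * (y * (((x ^ p) ^ m)⁻¹ * g)) := by rw [hi]
      _ = _ := by rw [← mul_assoc, h2.eq]; group
  have hCsc : F.StronglyClosed C := by
    refine ⟨hCS, fun R hR χ hχ r => ?_⟩
    have hrP : χ r ∈ P := apply_mem_of_stronglyClosed hP hχ r (hCP (hR r.2))
    refine (hmemC ⟨_, hrP⟩).2 (homega _ (Subtype.ext ?_))
    show χ r ^ p = 1
    rw [← map_pow, show r ^ p = 1 from Subtype.ext (congrArg Subtype.val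
      (hCpow ⟨r, hCP (hR r.2)⟩ ((hmemC _).1 (hR r.2))) :), map_one]
  haveI : Finite (normalizerIn S C) := finite_sub (normalizerIn_le C)
  have hCn : ∀ g ∈ S, g ∈ Subgroup.normalizer (C : Set Ω) := fun g hg =>
    mem_normalizer_of_conj_mem fun w hw => conj_mem_of_stronglyClosed hCsc hg hw
  have hCfn : F.IsFullyNormalized C := ⟨hCS, fun Q _ => Subgroup.card_le_of_le
    (le_inf inf_le_left (fun g hg => hCn g hg.1))⟩
  let _ : CommGroup C :=
    { (inferInstance : Group C) with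
      mul_comm := fun a b => Subtype.ext (congrArg (fun w : ↥P => (w : Ω))
        (habel ⟨a, hCP a.2⟩ ⟨b, hCP b.2⟩ ((hmemC _).1 a.2) ((hmemC _).1 b.2)) :) }
  haveI : Finite (MulAut C) := Finite.of_injective (fun f : MulAut C => (f : C → C)) DFunLike.coe_injective
  let c : ↥P →* MulAut C :=
    C.normalizerMonoidHom.comp ((P.subtype).codRestrict _ fun g => hCn g (hP.1 g.2))
  have hc : ∀ (g : ↥P) (w : C), ((c g w : C) : Ω) = g * w * (g : Ω)⁻¹ := fun g w => rfl
  have hcC : ∀ g : ↥P, g * y = y * g → c g = 1 := fun g hg => MulEquiv.ext fun w => Subtype.ext (by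
    have h1 := habel g ⟨w, hCP w.2⟩ hg ((hmemC _).1 w.2)
    rw [hc]
    exact mul_inv_eq_iff_eq_mul.2 (congrArg Subtype.val h1 :))
  have hcker : ∀ g : ↥P, c g = 1 → g * y = y * g := fun g hg => by
    have h1 := congrArg (fun f : MulAut C => ((f ⟨y₀, hyC⟩ : C) : Ω)) hg
    exact Subtype.ext (mul_inv_eq_iff_eq_mul.1 h1)
  set t := c x with ht
  have hcx : ∀ g : ↥P, ∃ i : ℤ, c g = t ^ i := fun g => by
    obtain ⟨i, hi⟩ := hdec g
    refine ⟨i, ?_⟩
    rw [show g = x ^ i * (x ^ (-i) * g) by group, map_mul, map_zpow, hcC _ hi, mul_one]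
  have hzC : ((z : ↥P) : Ω) ∈ C := (hmemC z).2 (hzcen y).symm
  set zC : C := ⟨z, hzC⟩
  set yC : C := ⟨y₀, hyC⟩
  have hzCp : zC ^ p = 1 := Subtype.ext (congrArg Subtype.val hzp :)
  have hyCp : yC ^ p = 1 := Subtype.ext (congrArg Subtype.val hyp :)
  have hzC1 : zC ≠ 1 := fun h => hz1 (Subtype.ext (congrArg Subtype.val h :))
  have hyC1 : yC ≠ 1 := fun h => hy₀1 (congrArg Subtype.val h)
  have htz : t zC = zC := Subtype.ext (by
    rw [hc]; exact mul_inv_eq_iff_eq_mul.2 (congrArg Subtype.val (hzcen x) :))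
  have hty : t yC = zC * yC := Subtype.ext (by
    rw [hc]
    show (x : Ω) * y₀ * (x : Ω)⁻¹ = ((⁅x, y⁆ : ↥P) : Ω) * y₀
    rw [commutatorElement_def]
    push_cast
    rw [show ((y : ↥P) : Ω) = y₀ from rfl]
    group)
  have hmemz : ∀ e : C, (⟨e, hCP e.2⟩ : ↥P) ∈ commutator ↥P → e ∈ Subgroup.zpowers zC := by
    intro e he
    obtain ⟨i, hi⟩ := hgen z (hcm x y) hz1 _ he
    exact ⟨i, Subtype.ext (congrArg Subtype.val hi :)⟩
  have htC : ∀ w, ∃ e ∈ Subgroup.zpowers zC, t w = e * w := fun w => by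
    refine ⟨t w * w⁻¹, hmemz _ ?_, (inv_mul_cancel_right _ _).symm⟩
    rw [show (⟨((t w * w⁻¹ : C) : Ω), hCP (t w * w⁻¹).2⟩ : ↥P) = ⁅x, ⟨w, hCP w.2⟩⁆ from Subtype.ext (by
      rw [Subgroup.coe_mul, Subgroup.coe_inv, hc, commutatorElement_def]; rfl)]
    exact hcm _ _
  -- the conjugate transvection
  have hβr : β₀.range = C := range_eq_of_mem hβ₀ (fun w => hCsc.2 C le_rfl β₀ hβ₀ w) le_rfl
  set β := homEquiv hβ₀ hβr with hβdef
  have hβapply : ∀ w : C, ((β w : C) : Ω) = β₀ w := fun w => homEquiv_coe hβ₀ hβr w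
  have hβyC : β yC ∈ Subgroup.zpowers zC := hmemz _ (by
    rw [show (⟨((β yC : C) : Ω), hCP (β yC).2⟩ : ↥P) = βP yC from Subtype.ext (hβapply yC)]
    exact hβy)
  set G := F.autGroup C
  have hβG : β ∈ G := homEquiv_mem_autGroup hβ₀ hβr
  have htG : t ∈ G := autInducedBy_le_autGroup F hCS (mem_autInducedBy.2 ⟨x, hP.1 x.2, fun w => rfl⟩)
  set t' : MulAut C := β⁻¹ * t * β with ht'
  have ht'G : t' ∈ G := G.mul_mem (G.mul_mem (G.inv_mem hβG) htG) hβG
  have hβinv : ∀ e ∈ Subgroup.zpowers zC, (β⁻¹ : MulAut C) e ∈ Subgroup.zpowers yC := by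
    intro e he
    have h0 : β yC ≠ 1 := fun h => hyC1 (β.injective (h.trans (map_one β).symm))
    have hz' : Subgroup.zpowers (β yC) = Subgroup.zpowers zC := by
      refine Subgroup.eq_of_le_of_card_ge (Subgroup.zpowers_le.2 hβyC) ?_
      rw [Nat.card_zpowers, Nat.card_zpowers, orderOf_eq_prime hzCp hzC1,
        orderOf_eq_prime (by rw [← map_pow, hyCp, map_one]) h0]
    rw [← hz'] at he
    obtain ⟨i, rfl⟩ := he
    exact ⟨i, by simp⟩
  have ht'y : t' yC = yC := by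
    rw [ht', MulAut.mul_apply, MulAut.mul_apply, Transvection.fix_of_mem htz hβyC, MulAut.inv_apply_self]
  have ht'C : ∀ w, ∃ e ∈ Subgroup.zpowers yC, t' w = e * w := fun w => by
    obtain ⟨e, he, hew⟩ := htC (β w)
    exact ⟨_, hβinv e he, by rw [ht', MulAut.mul_apply, MulAut.mul_apply, hew, map_mul, MulAut.inv_apply_self]⟩
  have hrec := receptive_of_fullyNormalized hS hF hCfn
  -- automorphisms of `C` normalizing `⟨t⟩` extend to `P`
  have hext : ∀ γ ∈ G, ∀ r ∈ S, (∀ w : C, ((γ (t w) : C) : Ω) = r * (γ w : C) * r⁻¹) →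
      ∃ χ ∈ F.Hom P, (∀ w : C, χ ⟨w, hCP w.2⟩ = γ w) := by
    intro γ hγ r hr hrel
    obtain ⟨χ, hχ, he⟩ := exists_extend_aut hrec (R := P) (fun g hg => ⟨hP.1 hg, hCn g (hP.1 hg)⟩) hγ
      (fun g hg => by
        obtain ⟨i, hi⟩ := hcx ⟨g, hg⟩
        refine ⟨r ^ i, S.zpow_mem hr i, fun w hw => ?_⟩
        have hpow : ∀ (m : ℤ) (v : C), ((γ ((t ^ m) v) : C) : Ω) = r ^ m * (γ v : C) * (r ^ m)⁻¹ := by
          intro m
          induction m using Int.induction_on with
          | zero => intro v; simp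
          | succ n ih =>
            intro v
            rw [zpow_add_one, MulAut.mul_apply, ih, hrel, zpow_add_one]
            group
          | pred n ih =>
            intro v
            rw [zpow_sub_one, MulAut.mul_apply, ih, zpow_sub_one]
            have h1 := hrel ((t⁻¹ : MulAut C) v)
            rw [MulAut.apply_inv_self] at h1
            rw [h1]
            group
        rw [show (⟨g * w * g⁻¹, hw⟩ : C) = (t ^ i) w from Subtype.ext (by rw [← hi]; rfl)]
        exact hpow i w)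
    exact ⟨χ, hχ, fun w => he w w.2 (hCP w.2)⟩
  by_cases hfix : t' zC = zC
  · have hne : t' ≠ 1 := by
      intro h
      have h2 : t = 1 := by
        rw [ht'] at h
        calc t = β * (β⁻¹ * t * β) * β⁻¹ := by group
          _ = 1 := by rw [h]; group
      exact hx (hcker x h2)
    obtain ⟨hcomm, htp, hnot⟩ := Transvection.fixed_case t t' hzCp hzC1 hyC1 hyCp htz hty htC ht'y ht'C hfix hne
    set t'' := t' * t * t'⁻¹ with ht''
    have ht''p : t'' ^ p = 1 := by rw [ht'', conj_pow, htp, mul_one, mul_inv_cancel]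
    let K : Subgroup (MulAut C) := Subgroup.zpowers t ⊔ Subgroup.zpowers t''
    have hKG : K ≤ G := sup_le (Subgroup.zpowers_le.2 htG)
      (Subgroup.zpowers_le.2 (G.mul_mem (G.mul_mem ht'G htG) (G.inv_mem ht'G)))
    have hKp : IsPGroup p K := by
      refine fun k => ⟨1, Subtype.ext ?_⟩
      have hk' : (k : MulAut C) ∈ Subgroup.zpowers t ⊔ Subgroup.zpowers t'' := k.2
      haveI : IsMulCommutative (Subgroup.closure ({t, t''} : Set (MulAut C))) :=
        Subgroup.isMulCommutative_closure (by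
          rintro a (rfl | rfl) b (rfl | rfl) <;> first | rfl | exact hcomm.eq | exact hcomm.eq.symm)
      rw [show Subgroup.zpowers t ⊔ Subgroup.zpowers t'' = Subgroup.closure ({t, t''} : Set (MulAut C)) by
        rw [Set.insert_eq, Subgroup.closure_union, ← Subgroup.zpowers_eq_closure,
          ← Subgroup.zpowers_eq_closure]] at hk'
      show (k : MulAut C) ^ p ^ 1 = 1
      rw [pow_one]
      refine Subgroup.closure_induction (p := fun a _ => a ^ p = 1) ?_ (one_pow p) ?_ ?_ hk'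
      · rintro a (rfl | rfl)
        exacts [htp, ht''p]
      · intro a b ha hb h1 h2
        rw [(show Commute a b from setLike_mul_comm ha hb).mul_pow, h1, h2, one_mul]
      · intro a _ h1
        rw [inv_pow, h1, inv_one]
    obtain ⟨R, hR⟩ := (fullyAutomized_of_fullyNormalized hS hF hCfn).2
    obtain ⟨γ, hγ, hγK⟩ := exists_conj_le_sylow R hR hKG hKp
    have hlift : ∀ δ ∈ G, (δ * t * δ⁻¹) ∈ autInducedBy S C → δ * t * δ⁻¹ ∈ Subgroup.zpowers t := by
      intro δ hδ hmem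
      obtain ⟨r, hr, hre⟩ := mem_autInducedBy.1 hmem
      have hrel : ∀ w : C, ((δ (t w) : C) : Ω) = r * (δ w : C) * r⁻¹ := fun w => by
        have h1 := hre (δ w)
        rw [MulAut.mul_apply, MulAut.mul_apply, MulAut.inv_apply_self] at h1
        exact h1
      obtain ⟨χ, hχ, hχe⟩ := hext δ hδ r hr hrel
      have hwP : χ x ∈ P := apply_mem_of_stronglyClosed hP hχ x x.2
      obtain ⟨m, hm⟩ := hcx ⟨χ x, hwP⟩
      refine ⟨m, ?_⟩
      show t ^ m = δ * t * δ⁻¹
      rw [← hm, eq_mul_inv_iff_mul_eq]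
      refine MulEquiv.ext fun w => Subtype.ext ?_
      show χ x * (δ w : C) * (χ x)⁻¹ = ((δ (t w) : C) : Ω)
      rw [← hχe w, ← hχe (t w), ← map_inv, ← map_mul, ← map_mul]
      exact congrArg χ (Subtype.ext (hc x w).symm)
    obtain ⟨a, ha⟩ := hlift γ hγ (hγK _ (Subgroup.mem_sup_left (Subgroup.mem_zpowers t)))
    obtain ⟨b, hb⟩ := hlift (γ * t') (G.mul_mem hγ ht'G) (by
      have := hγK t'' (Subgroup.mem_sup_right (Subgroup.mem_zpowers t''))
      rw [ht''] at this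
      simpa [mul_assoc] using this)
    have ha' : ¬ (p : ℤ) ∣ a := by
      rintro ⟨m, rfl⟩
      have h1 : γ * t * γ⁻¹ = 1 := by
        rw [← ha]; show t ^ ((p : ℤ) * m) = 1
        rw [zpow_mul, zpow_natCast, htp, one_zpow]
      exact hx (hcker x (conj_eq_one_iff.1 h1))
    obtain ⟨s, u, hsu⟩ := ((Nat.prime_iff_prime_int.mp hpp).coprime_iff_not_dvd.mpr ha').symm
    refine hnot ⟨s * b, ?_⟩
    show t ^ (s * b) = t''
    have h2 : t'' = γ⁻¹ * t ^ b * γ := by
      rw [show t ^ b = γ * t' * t * (γ * t')⁻¹ from hb, ht'']; group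
    have h3 : t = (γ * t * γ⁻¹) ^ s := by
      rw [show γ * t * γ⁻¹ = t ^ a from ha.symm, ← zpow_mul]
      calc t = t ^ (s * a + u * (p : ℤ)) := by rw [hsu, zpow_one]
        _ = t ^ (a * s) := by
          rw [zpow_add, mul_comm u, zpow_mul t (p : ℤ), zpow_natCast, htp, one_zpow, mul_one, mul_comm]
    rw [h2]
    nth_rewrite 2 [h3]
    rw [conj_zpow, conj_zpow, zpow_mul]
    group
  · obtain ⟨α, hα, hαz, hαt⟩ :=
      Transvection.moving_case t t' hzCp hzC1 hyC1 hyCp htz hty htC ht'y ht'C hfix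
    have hαG : α ∈ G := by
      refine (Subgroup.closure_le G).2 ?_ hα
      rintro a (rfl | rfl)
      exacts [htG, ht'G]
    obtain ⟨χ, hχ, hχe⟩ := hext α hαG x (hP.1 x.2) (fun w => by
      have h1 := congrArg (fun f : MulAut C => ((f w : C) : Ω)) hαt.eq
      simp only [MulAut.mul_apply] at h1
      rw [h1, hc])
    have hwP : χ x ∈ P := apply_mem_of_stronglyClosed hP hχ x x.2
    set v : ↥P := ⟨χ x, hwP⟩
    have hv : c (x⁻¹ * v) = 1 := by
      rw [map_mul, map_inv, inv_mul_eq_one]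
      refine MulEquiv.ext fun w => Subtype.ext ?_
      obtain ⟨w', rfl⟩ := α.surjective w
      show ((t (α w') : C) : Ω) = χ x * (α w' : C) * (χ x)⁻¹
      rw [← hχe w', ← map_inv, ← map_mul, ← map_mul]
      refine Eq.trans ?_ ((hχe (t w')).symm.trans (congrArg χ (Subtype.ext (hc x w'))))
      exact congrArg (fun f : MulAut C => ((f w' : C) : Ω)) hαt.eq.symm
    have hvp : v ^ p = x ^ p := by
      rw [show v = x * (x⁻¹ * v) by group, hpowmul, hCpow _ (hcker _ hv), mul_one]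
    obtain ⟨m, hm⟩ := hgen z (hcm x y) hz1 _ (hpm x)
    change z ^ m = x ^ p at hm
    have h1 : χ ⟨((x ^ p : ↥P) : Ω), (x ^ p).2⟩ = ((x ^ p : ↥P) : Ω) := by
      rw [show (⟨((x ^ p : ↥P) : Ω), (x ^ p).2⟩ : ↥P) = x ^ p from rfl, map_pow]
      exact congrArg Subtype.val hvp
    have h2 : χ ⟨((x ^ p : ↥P) : Ω), (x ^ p).2⟩ = ((zC ^ (-m) : C) : Ω) := by
      rw [show (⟨((x ^ p : ↥P) : Ω), (x ^ p).2⟩ : ↥P) = ⟨((zC ^ m : C) : Ω), hCP (zC ^ m).2⟩ from
        Subtype.ext (by rw [← hm]; push_cast; rfl), hχe, map_zpow, hαz, inv_zpow, zpow_neg]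
    have h3 : z ^ m = z ^ (-m) := by
      refine Subtype.ext ?_
      rw [hm]
      push_cast
      exact h1.symm.trans (h2.trans (by push_cast; rfl))
    have h4 : z ^ (2 * m) = 1 := by
      rw [two_mul, zpow_add]
      nth_rewrite 2 [h3]
      rw [← zpow_add, add_neg_cancel, zpow_zero]
    have h5 : (p : ℤ) ∣ 2 * m := by
      rw [← orderOf_eq_prime hzp hz1]; exact orderOf_dvd_iff_zpow_eq_one.2 h4
    rcases (Nat.prime_iff_prime_int.mp hpp).dvd_mul.1 h5 with h6 | ⟨q, rfl⟩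
    · exact hp2 ((Nat.prime_dvd_prime_iff_eq hpp Nat.prime_two).1 (by exact_mod_cast h6))
    · rw [zpow_mul, zpow_natCast, hzp, one_zpow] at hm
      exact hxp hm.symm

end Cfsg.Agent.Lib.FusionP3.GenExtra
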